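import Cfsg.Agent.Lib.Schur.OSeven.Data
import Cfsg.Agent.Lib.Schur.OSeven.Data3
import Cfsg.Agent.Lib.Schur.TailsDensePerm

/-!
# Kernel checks of the certificate at 3
-/

set_option autoImplicit false
set_option maxRecDepth 100000
set_option maxHeartbeats 0

namespace CfsgLib.Schur.OSeven

open CfsgLib.Sporadic.OutCert

theorem slp3_ok : Tails.slpK 9 378 8 slpTab3 slpW3 = true ∧ slpTab3.take 8 = gensK := by
  decide +kernel

theorem pick3_ok : Tails.pickK 9 378 slpTab3 ids3 kk3 = true ∧
    Tails.pickK 9 378 slpTab3 gids3 gk3 = true := by decide +kernel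

theorem cert3_eqs : cert3.eqsOK = true := by decide +kernel

theorem cert3_comb : cert3.combOK = true := by decide +kernel

theorem cert3_shape : cert3.shapeOK = true ∧ cert3.p = 3 ∧ ¬ 3 ∣ cert3.m ∧ cert3.b = 3 ∧
    ¬ 3 ^ (cert3.r + 1) ∣ 4585351680 := by decide +kernel

theorem rels3_ok : Tails.relK 9 378 kk3 cert3 = true ∧ Tails.fusK 9 378 kk3 gk3 cert3 = true := by
  decide +kernel

theorem all3_ok : Tails.chainK 9 378 kk3 all3 allW3 0 cert3.r (3 ^ cert3.r) = true := by
  decide +kernel

theorem inner3_ok : Tails.chainK 9 378 kk3 inner3 innerW3 cert3.a cert3.r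
    (3 ^ (cert3.r - cert3.a)) = true := by decide +kernel

end CfsgLib.Schur.OSeven
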