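import Mathlib

/-!
# Two commuting elements whose lifts do not commute

Machine-generated data.
-/

set_option autoImplicit false

namespace CfsgLib.Schur.OSeven

/-- An element of order three as letters. -/
def wordA : List (Fin 8) := [6, 7, 2, 6, 1, 2, 0, 1]

/-- An element commuting with it. -/
def wordB : List (Fin 8) :=
  [4, 3, 2, 6, 7, 3, 1, 0, 4, 3, 2, 6, 7, 3, 1, 0, 4, 3, 2, 6, 7, 3, 1, 0, 4, 3, 2, 6, 7, 3, 1, 0]

end CfsgLib.Schur.OSeven
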