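import Cfsg.Agent.Lib.Schur.OSeven.Model
import Cfsg.Agent.Lib.Schur.OSeven.CoverData
import Cfsg.Agent.Lib.Schur.MonoRel
import Cfsg.Agent.Lib.Schur.StemFiber
import Cfsg.Agent.Lib.Schur.SpinLift
import Cfsg.Agent.Lib.Schur.Cover

/-!
# The sixfold cover: monomial on 378 lines times three sheets, and the lift to the double cover of the
alternating group of degree 378
-/

set_option autoImplicit false
set_option maxRecDepth 100000

namespace CfsgLib.Schur.OSeven

open CfsgLib.Sporadic.CosetCert CfsgLib.Sporadic.OutCert Subgroup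
open scoped commutatorElement

/-- The tables of the lifts. -/
noncomputable def tabs : MonoRel.Tabs := ⟨378, 3, 9, 2, gensK, shiftK⟩

/-- The shifts of a lifted letter. -/
noncomputable def shF (x : Fin 8) (i : Fin 378) : ZMod 3 := (tabs.shN x i : ℕ)

/-- The lifted letters. -/
noncomputable abbrev lg (x : Fin 8) : Equiv.Perm (MonoRel.Sheet 378 3) := MonoRel.lgen gen psi shF x

/-- The cover. -/
noncomputable abbrev Three : Subgroup (Equiv.Perm (MonoRel.Sheet 378 3)) := MonoRel.Cov gen psi shF

/-- A lifted letter by its number. -/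
noncomputable def lgN (y : ℕ) : Equiv.Perm (MonoRel.Sheet 378 3) := if h : y < 8 then lg ⟨y, h⟩ else 1

theorem lgN_spec {y : ℕ} (hy : y < 8) (z : MonoRel.Sheet 378 3) :
    ((lgN y z).1 : ℕ) = tabs.imN y z.1 ∧ (lgN y z).2 = z.2 + (tabs.shN y z.1 : ℕ) := by
  simp only [lgN, dif_pos hy]
  refine ⟨?_, rfl⟩
  show (psi (gen ⟨y, hy⟩) z.1 : ℕ) = _
  rw [← rep_gen ⟨y, hy⟩ z.1]
  rfl

theorem rels_mono : O7P.allRels.all (fun r =>
    (O7P.letters r).all (fun y => decide (y < 8)) &&
      tabs.constK (O7P.letters r) (tabs.firstK (O7P.letters r))) = true := by decide +kernel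

theorem sq_mono : allF (fun x => tabs.constK [x, x] 0) 8 = true := by decide +kernel

theorem lgN_eval {L : List ℕ} {s : ℕ} (hL : ∀ y ∈ L, y < 8) (h : tabs.constK L s = true) :
    appProd lgN L = MonoRel.shift 378 3 (Multiplicative.ofAdd (s : ZMod 3)) := by
  haveI : NeZero tabs.q := ⟨by decide⟩
  exact tabs.appProd_shift lgN (fun y hy => lgN_spec (hL y hy)) h

theorem lg_inv (x : Fin 8) : (lg x)⁻¹ = lg x := by
  refine inv_eq_of_mul_eq_one_right ?_
  have h := lgN_eval (L := [(x : ℕ), x]) (by simp [x.2]) (allF_iff.1 sq_mono x x.2)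
  rw [Nat.cast_zero, ofAdd_zero, map_one] at h
  simpa [appProd, lgN, x.2] using h

/-- A lifted letter in the cover. -/
noncomputable abbrev tg (x : Fin 8) : Three := MonoRel.cgen x

theorem tg_inv (x : Fin 8) : (tg x)⁻¹ = tg x := Subtype.ext (lg_inv x)

theorem coe_lift {H : Subgroup (Equiv.Perm (MonoRel.Sheet 378 3))} (f : Fin 8 → H) (r : FreeGroup (Fin 8)) :
    ((FreeGroup.lift f r : H) : Equiv.Perm (MonoRel.Sheet 378 3)) = FreeGroup.lift (fun x => (f x).1) r := by
  induction r using FreeGroup.induction_on with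
  | C1 => simp
  | of x => simp
  | inv_of x ih => simp
  | mul a b ha hb => simp [ha, hb]

theorem rels_shift : ∀ r ∈ O7P.allRels,
    FreeGroup.lift (fun x => (tg x : Three ⧸ MonoRel.shifts)) r = 1 := by
  intro r hr
  have h := List.all_eq_true.1 rels_mono r hr
  simp only [Bool.and_eq_true, List.all_eq_true, decide_eq_true_eq] at h
  have e : FreeGroup.lift (fun x => (tg x : Three ⧸ MonoRel.shifts)) r =
      QuotientGroup.mk' _ (FreeGroup.lift tg r) := by
    rw [← MonoidHom.comp_apply]
    congr 1
    ext x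
    simp
  rw [e]
  refine (QuotientGroup.eq_one_iff _).2
    ⟨Multiplicative.ofAdd ((tabs.firstK (O7P.letters r) : ℕ) : ZMod 3), ((coe_lift tg r).trans ?_).symm⟩
  have hg : ∀ x : Fin 8, lgN x = lg x := fun x => dif_pos x.2
  show FreeGroup.lift lg r = _
  rw [lift_eq_appProd lg lgN _ _ hg (fun x => (hg x).trans (lg_inv x).symm) r]
  exact lgN_eval h.1 h.2

theorem hker : (MonoRel.proj gen psi shF psi_injective).ker ≤ MonoRel.shifts :=
  MonoRel.ker_proj_le psi_injective gen_closure
    ⟨PresentedGroup.toGroup (lift_cox_eq_one _ O7P.coding.pairs_cover rels_shift),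
      fun _ => PresentedGroup.toGroup.of _⟩

/-- A product of lifted letters. -/
noncomputable def wT (w : List (Fin 8)) : Three := (w.map tg).prod

theorem wT_reverse : ∀ w : List (Fin 8), wT w.reverse = (wT w)⁻¹
  | [] => by simp [wT]
  | x :: w => by
    have ih := wT_reverse w
    simp only [wT] at ih ⊢
    rw [List.reverse_cons, List.map_append, List.prod_append, ih]
    simp [tg_inv]

theorem wT_append (u v : List (Fin 8)) : wT (u ++ v) = wT u * wT v := by simp [wT]

theorem wT_val : ∀ w : List (Fin 8), (wT w : Equiv.Perm (MonoRel.Sheet 378 3)) =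
    appProd lgN (w.reverse.map Fin.val)
  | [] => rfl
  | x :: w => by
    have ih := wT_val w
    rw [List.reverse_cons, List.map_append, List.map_singleton, appProd_append,
      show wT (x :: w) = tg x * wT w from rfl, Subgroup.coe_mul, ih]
    congr 1
    show _ = 1 * lgN x
    rw [one_mul, lgN, dif_pos x.2]
    rfl

/-- The word of the commutator. -/
def wordZ : List (Fin 8) := wordA ++ wordB ++ wordA.reverse ++ wordB.reverse

theorem z_mono : tabs.constK (wordZ.reverse.map Fin.val) 1 = true ∧
    (wordZ.reverse.map Fin.val).all (fun y => decide (y < 8)) = true := by decide +kernel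

/-- The central element. -/
noncomputable def zT : Three := ⁅wT wordA, wT wordB⁆

theorem zT_val : (zT : Equiv.Perm (MonoRel.Sheet 378 3)) = MonoRel.shift 378 3 (Multiplicative.ofAdd 1) := by
  have e : zT = wT wordZ := by
    rw [zT, commutatorElement_def, wordZ, wT_append, wT_append, wT_append, wT_reverse, wT_reverse]
  rw [e, wT_val, lgN_eval (fun y hy => of_decide_eq_true (List.all_eq_true.1 z_mono.2 y hy)) z_mono.1,
    Nat.cast_one]

theorem z_points : allF (fun i => Nat.beq (imgW (wordZ.reverse.map Fin.val) i) i) 378 = true := by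
  decide +kernel

theorem orderOf_zT : orderOf zT = 3 := by
  rw [← Subgroup.orderOf_coe, zT_val, orderOf_injective _ (MonoRel.shift_inj (by norm_num : 0 < 378)),
    orderOf_ofAdd_eq_addOrderOf]
  exact ZMod.addOrderOf_one 3

theorem proj_zT : MonoRel.proj gen psi shF psi_injective zT = 1 := by
  refine psi_injective (Equiv.ext fun i => Fin.ext ?_)
  have e : zT = wT wordZ := by
    rw [zT, commutatorElement_def, wordZ, wT_append, wT_append, wT_append, wT_reverse, wT_reverse]
  let g : ℕ → Equiv.Perm (Fin 378) := fun y => if hy : y < 8 then genP ⟨y, hy⟩ else 1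
  have key : ∀ w : List (Fin 8),
      psi (MonoRel.proj gen psi shF psi_injective (wT w)) = appProd g (w.reverse.map Fin.val) := by
    intro w
    induction w with
    | nil => simp [wT, appProd]
    | cons x w ih =>
      rw [show wT (x :: w) = tg x * wT w from rfl, map_mul, MonoRel.proj_cgen, map_mul, ih, psi_gen,
        List.reverse_cons, List.map_append, List.map_singleton, appProd_append]
      congr 1
      show _ = 1 * g x
      rw [one_mul]
      simp [g]
  rw [e, key, appProd_img (fun x => dif_pos x.2) _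
    (fun y hy => of_decide_eq_true (List.all_eq_true.1 z_mono.2 y hy)), map_one]
  exact Nat.beq_eq ▸ allF_iff.1 z_points i i.2

theorem three_spec : Cfsg.IsStemExtension (MonoRel.proj gen psi shF psi_injective) ∧
    Nat.card (MonoRel.proj gen psi shF psi_injective).ker = 3 ∧
      IsCyclic (MonoRel.proj gen psi shF psi_injective).ker :=
  MonoRel.isStem psi_injective gen_closure hker
    (Subgroup.commutator_mem_commutator (Subgroup.mem_top _) (Subgroup.mem_top _)) proj_zT orderOf_zT

theorem swaps_check : ∀ i : Fin 378, ((SpinLift.swapProd swaps i : Fin 378) : ℕ) = lk 9 (gensK.getD 0 0) i := by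
  decide +kernel

theorem exists_two : ∃ (Γ : Type) (_ : Group Γ) (_ : Finite Γ) (τ : Γ →* G),
    Cfsg.IsStemExtension τ ∧ Nat.card τ.ker = 2 := by
  haveI := isPerfect_G
  let e : G ≃* psi.range := MonoidHom.ofInjective psi_injective
  have hperf : Group.IsPerfect psi.range := by
    refine Group.isPerfect_def.2 ?_
    show commutator psi.range = ⊤
    rw [commutator_def, ← Subgroup.map_top_of_surjective e.toMonoidHom e.surjective,
      ← Subgroup.map_commutator, ← commutator_def, Group.IsPerfect.commutator_eq_top]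
  have heven : psi.range ≤ Equiv.Perm.sign.ker := by
    rintro _ ⟨g, rfl⟩
    exact MonoidHom.mem_ker.2 (Cover.eq_one_of_isPerfect isPerfect_G (Equiv.Perm.sign.comp psi)
      (fun _ _ => Commute.all _ _) g)
  have hmem : SpinLift.swapProd swaps ∈ psi.range :=
    ⟨gen 0, Equiv.ext fun i => Fin.ext ((rep_gen 0 i).symm.trans (swaps_check i).symm)⟩
  obtain ⟨Γ, _, hF, σ, hσ, hk⟩ := SpinLift.exists_double_cover hperf heven swaps
    (by decide +kernel) (by decide +kernel) hmem
  refine ⟨Γ, _, hF, e.symm.toMonoidHom.comp σ, ?_, ?_⟩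
  · have hker : (e.symm.toMonoidHom.comp σ).ker = σ.ker := by
      ext z
      simp
    refine ⟨e.symm.surjective.comp hσ.1, hker ▸ hσ.2.1, hker ▸ hσ.2.2⟩
  · rw [show (e.symm.toMonoidHom.comp σ).ker = σ.ker from by ext z; simp, hk]

theorem exists_cover : ∃ (Γ : Type) (_ : Group Γ) (_ : Finite Γ) (σ : Γ →* G),
    Cfsg.IsStemExtension σ ∧ Nat.card σ.ker = 6 ∧ IsCyclic σ.ker := by
  obtain ⟨Γ, _, _, τ, hτ, hk⟩ := exists_two
  obtain ⟨hσ, h3, hcyc⟩ := three_spec
  haveI := hcyc
  haveI : Fact (Nat.Prime 2) := ⟨Nat.prime_two⟩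
  haveI : IsCyclic τ.ker := isCyclic_of_prime_card hk
  haveI : Finite Three := Subtype.finite
  have hc : Nat.Coprime (Nat.card (MonoRel.proj gen psi shF psi_injective).ker) (Nat.card τ.ker) := by
    rw [h3, hk]; norm_num
  refine ⟨_, inferInstance, inferInstance, StemFiber.proj (MonoRel.proj gen psi shF psi_injective) τ,
    StemFiber.isStem hσ hτ hc, ?_, StemFiber.isCyclic_ker hc⟩
  rw [Nat.card_congr StemFiber.kerEquiv.toEquiv, Nat.card_prod, h3, hk]

end CfsgLib.Schur.OSeven
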