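import Mathlib

/-!
# Elements of prime order

Machine-generated data.
-/

set_option autoImplicit false
set_option maxRecDepth 100000

namespace CfsgLib.Schur.OSeven

/-- Elements of orders five, seven and thirteen as words. -/
def primeW : List (List ℕ) :=
  [[0, 1, 6, 2],
    [3, 6, 5, 4, 7, 2],
    [0, 1, 4, 5, 3, 7, 6, 2]]

/-- Their permutations. -/
def primeK : List ℕ :=
  [0x21d554e9c8c401ae4610b407220c3e732154d78fba5bb58e69070b92b0cafa69b13447505d0071e0a610cd982624944278cc167a7fde671135b0e8385d32940652583bca93679716c8c2b5121d80df7bc56b4e361de202759e47d4af59d34c7e191c9f6b31e45d0dce081e89936db994152f62080d0c727952c16af4a7b88f73b361003aacb23c19d099583c92307e5d914dc6bd402825380bcd64d632c5272277c342a1e002f9527f5d33d3919554fdccbfaec1101726cdc17023288a2368dab384f13d0d160bd12b5b515f31930c4cc09a332de2d0885aa7ce5431802c54a548128b3775805a0d265cd05024f5a1f2442a80894353459a912d4b2ad9259370eceec553db2734e2991c0c3e2e084e22c095bd32f6a8b55bd335bc5111757f28e851c60d5dd2370b90da3357d45ebc81061a896c890d85654c85880c23681dc5090f5dcde0cada2920c80a48baa5ea188d340a6d2f9e6b71d7ea3ee8133789db5526b29112c2703e22c5a228a9689f69310eca60c00c36ec6651e1490b2ca15d2c75a4a52112719e476365376dcb911148491a46560f9778015c8204b6a81e7549b5a550bd3f0e0e856,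
    0x264a52a3d83ee23524a8f3d95005b82d4d0ddd47c98c50887a61839b56530d30457473a54505351488b55e50538e0858cc480ebd08a320431abcf8951bbaa61eb21544dc4c1c34416d88e241140960822741683601c6d0f11cc369e519c2a6e224693d1c82158c708c13b0d611a3d769423141052058434aebf0d6f76ad22f01e941594c166dc04f75139ab897293c3141ad8b398a5f162189cce1b9d49146e5a5b3d090bb4aae87130c97067551e41d7e10453b8dd6b5215e6a9732d29a829b9445764e7f318b6f0430e964055a2f81e8b4f049969474095a2f3322aa4a5918326be6d47d508eb5a002504c10c32142085d2b1af4970a9e692748dddf16f3ec2256b88fd6d98ddad3fc5cd9b31819c9b0acc22a428f4ec9ab75780adceb3a42aa4363cb10195336222350f01976ac9c0d572c4ad20c5d00f21d88da096294da462c7cd1a792d0037c5e991c3b0ecb097130ee72a805e00e0934ccab79719a5ac901058dfa9f865a8fe4f1f819136d83050645e59c3a7f73333a5261d69bec57445b12620ca2fc0d0e3e77d097840a69f8df64638d4b1209c8a9f54531b9aed093adc1bccdacc75732c,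
    0x24ae08251a7d6e350e87e9733c8a83680c0dd710194105776ba20547adf4a109b4c5b650026fd1daf12cbd5bd0a91691c11cd06960bf2976f0a2547cdc5b374ca169fd318439932620046a186a8e36902f968439198e04c36ca4c797596d50e82c252acfcd500d46b6a18c1c5105f875383f64373ed9c77720c01b30b2bcc4ca989210b602118453ea563239a2b0bc826bb1a5212c647d72d5a541b650a63e5540c340160b8a809ef745c28b06069c1d651629398627a691d5631b75be6c534af226205d78b20a13ab9088fe3370bb8569b9b81258613c45498ec6687a6577462bda0f27c4667159b0b8d04344d3bc51299a80e0c7b29a8dd46ca7ccc148f2cc25e06f53ce41f5288ab4acd72e4306ae242b25e8728e92150254cbb6ed57075983b5502cbe6d5395dd1ac83561244e73035729a798a1893a6d8e542be21450b9d27063bdacf31061690d1355091ea0805880f8b36a27198a2ad042e6e8468bc9ca68b8725d5885a00a91e1532c0f78b19d8a3054f3e89b0f5715d9e5e840b5ce87623608927491aee13c0ba4174c06dc0e493da55b5febf332e64245a4da83291203f9bc645acec2545]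

end CfsgLib.Schur.OSeven
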