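import Cfsg.Agent.Lib.Schur.OSeven.Main
import Cfsg.Agent.Lib.Classical.PermModel
import Cfsg.Agent.S1686

/-!
# Transfer to the projective orthogonal group over any field with three elements
-/

set_option autoImplicit false

universe u

namespace CfsgLib.Schur.OSeven

open CfsgLib.Classical

variable {F : Type u} [Field F] [Fintype F]

theorem exists_field_iso (hF : Fintype.card F = 3) :
    Nonempty (Cfsg.POmega (ZMod 3) (Cfsg.quadFormOdd 3 (ZMod 3)) ≃* Cfsg.POmega F (Cfsg.quadFormOdd 3 F)) := by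
  classical
  haveI : CharP F 3 := by
    obtain ⟨n, hp, hn⟩ := FiniteField.card F (ringChar F)
    have : ringChar F = 3 := by
      have h2 : ringChar F ∣ 3 := hF ▸ hn ▸ dvd_pow_self _ n.ne_zero
      exact (Nat.prime_dvd_prime_iff_eq hp Nat.prime_three).1 h2
    exact this ▸ ringChar.charP F
  let φ : ZMod 3 ≃+* F := ZMod.ringEquiv F hF
  let E : ↥(Cfsg.isometryGroup (ZMod 3) (Cfsg.quadFormOdd 3 (ZMod 3))) ≃*
      ↥(Cfsg.isometryGroup F (Cfsg.quadFormOdd 3 F)) :=
    PermModel.congrField φ fun v => by simp [Cfsg.quadFormOdd, map_sum]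
  have hmap : (Cfsg.Omega (ZMod 3) (Cfsg.quadFormOdd 3 (ZMod 3))).map E.toMonoidHom =
      Cfsg.Omega F (Cfsg.quadFormOdd 3 F) := by
    show (commutator _).map _ = commutator _
    rw [commutator_def, Subgroup.map_commutator, Subgroup.map_top_of_surjective _ E.surjective, commutator_def]
  let E' : ↥(Cfsg.Omega (ZMod 3) (Cfsg.quadFormOdd 3 (ZMod 3))) ≃* ↥(Cfsg.Omega F (Cfsg.quadFormOdd 3 F)) :=
    (E.subgroupMap _).trans (MulEquiv.subgroupCongr hmap)
  refine ⟨QuotientGroup.congr _ _ E' ?_⟩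
  ext x
  simp only [Subgroup.mem_map, Subgroup.mem_center_iff]
  constructor
  · rintro ⟨z, hz, rfl⟩ g
    obtain ⟨g, rfl⟩ := E'.surjective g
    show E' g * E' z = E' z * E' g
    rw [← map_mul, ← map_mul, hz g]
  · intro hx
    refine ⟨E'.symm x, fun g => E'.injective ?_, E'.apply_symm_apply x⟩
    rw [map_mul, map_mul, E'.apply_symm_apply]
    exact hx _

theorem hasMultiplier_pomega (hF : Fintype.card F = 3) :
    Cfsg.HasCyclicSchurMultiplier (Cfsg.POmega F (Cfsg.quadFormOdd 3 F)) 6 := by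
  obtain ⟨e1⟩ := Cfsg.Agent.S1686.center_free
  obtain ⟨e2⟩ := exists_field_iso (F := F) hF
  exact Basic.hasSchurMultiplier_of_mulEquiv ((equivOmg.trans e1).trans e2) hasMultiplier

end CfsgLib.Schur.OSeven
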