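import Cfsg.Agent.Lib.Schur.OSeven.Cover
import Cfsg.Agent.Lib.Schur.OSeven.Check2
import Cfsg.Agent.Lib.Schur.OSeven.Check3
import Cfsg.Agent.Lib.Schur.OSeven.DataPrime
import Cfsg.Agent.Lib.Schur.TailsCombine

/-!
# The multiplier of the orthogonal group of dimension seven over three elements has order six
-/

set_option autoImplicit false
set_option maxRecDepth 100000

universe u

namespace CfsgLib.Schur.OSeven

open CfsgLib.Sporadic.OutCert

theorem prime_ok : allF (fun j => (primeW.getD j []).all (fun y => decide (y < 8)) &&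
    Nat.beq (pkF 9 (imgW (primeW.getD j [])) 378 0) (primeK.getD j 0) &&
    testK 9 378 [primeK.getD j 0] ([5, 7, 13].getD j 0) &&
    !(Nat.beq (primeK.getD j 0) (oneK 9 378))) 3 = true := by decide +kernel

attribute [local irreducible] lk pkF allF compK slpTab2 slpTab3 kk2 kk3 gk2 gk3 gensK

theorem hw : 378 ≤ 2 ^ 9 := by norm_num

theorem base_mem {tab : List ℕ} (h : tab.take 8 = gensK) :
    ∀ i < 8, ∃ g : G, Rep 9 378 (tab.getD i (oneK 9 378)) (psi g) := by
  intro i hi
  refine ⟨gen ⟨i, hi⟩, ?_⟩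
  have e : tab.getD i (oneK 9 378) = gensK.getD i 0 := by
    have hl : i < (tab.take 8).length := by
      rw [h]; exact lt_of_lt_of_le hi gens_length.ge
    rw [List.getD_eq_getElem _ _ (lt_of_lt_of_le hl (by simp)), List.getD_eq_getElem _ _ (h ▸ hl)]
    simp [← h]
  rw [e]
  exact rep_gen ⟨i, hi⟩
where gens_length : gensK.length = 8 := by decide +kernel

theorem bound {D : Tails.Cert} {tab kk gk ids gids : List ℕ} {ws : List (List ℕ)}
    {lv lvin : List Level} {lw lwin : List (List (List ℕ))} {p : ℕ} [Fact p.Prime]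
    (hslp : Tails.slpK 9 378 8 tab ws = true ∧ tab.take 8 = gensK)
    (hpick : Tails.pickK 9 378 tab ids kk = true ∧ Tails.pickK 9 378 tab gids gk = true)
    (he : D.eqsOK = true) (hco : D.combOK = true)
    (hs : D.shapeOK = true ∧ D.p = p ∧ ¬ p ∣ D.m ∧ D.b = p ∧ ¬ p ^ (D.r + 1) ∣ 4585351680)
    (hr : Tails.relK 9 378 kk D = true ∧ Tails.fusK 9 378 kk gk D = true)
    (ha : Tails.chainK 9 378 kk lv lw 0 D.r (p ^ D.r) = true)
    (hi : Tails.chainK 9 378 kk lvin lwin D.a D.r (p ^ (D.r - D.a)) = true)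
    (Γ : Type u) [Group Γ] [Finite Γ] (σ : Γ →* G) (hσ : Cfsg.IsStemExtension σ) :
    (Nat.card σ.ker).factorization p ≤ p.factorization p := by
  have hsl := Tails.exists_slp psi hw (base_mem hslp.2) hslp.1
  choose y hy using Tails.exists_pick psi hw hsl hpick.1
  choose g hg using Tails.exists_pick psi hw hsl hpick.2
  obtain ⟨hsh, hDp, hm, hb, hQ⟩ := hs
  have := Tails.factorization_card_ker_le D he hco hsh hDp hm y
    (Tails.rel_of_check psi psi_injective hw hy hr.1) g
    (Tails.fus_of_check psi psi_injective hw hy hg hr.2)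
    (Tails.card_tailGen_ge_of_chain psi hw hy psi_injective ha)
    (Tails.card_tailGen_ge_of_chain psi hw hy psi_injective hi) (card_G ▸ hQ) Γ σ hσ
  rwa [hb] at this

theorem img_lt : ∀ (L : List ℕ), (∀ y ∈ L, y < 8) → ∀ i : Fin 378, imgW L i < 2 ^ 9 := fun L hL i => by
  let g : ℕ → Equiv.Perm (Fin 378) := fun y => if hy : y < 8 then genP ⟨y, hy⟩ else 1
  rw [← appProd_img (g := g) (fun x => dif_pos x.2) L hL i]
  omega

theorem exists_order (j : ℕ) (hj : j < 3) (m : ℕ) [Fact m.Prime] (hm : [5, 7, 13].getD j 0 = m) :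
    ∃ g : G, orderOf g = m := by
  have h := allF_iff.1 prime_ok j hj
  simp only [Bool.and_eq_true, List.all_eq_true, decide_eq_true_eq, Bool.not_eq_true', hm] at h
  obtain ⟨⟨⟨hl, hp⟩, ht⟩, hne⟩ := h
  have hp' := (Nat.beq_eq ▸ hp : pkF 9 (imgW (primeW.getD j [])) 378 0 = primeK.getD j 0)
  let g : ℕ → Equiv.Perm (Fin 378) := fun y => if hy : y < 8 then genP ⟨y, hy⟩ else 1
  let gg : ℕ → G := fun y => if hy : y < 8 then gen ⟨y, hy⟩ else 1
  have key : ∀ L : List ℕ, psi (CfsgLib.Sporadic.CosetCert.appProd gg L) =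
      CfsgLib.Sporadic.CosetCert.appProd g L := by
    intro L
    induction L with
    | nil => exact map_one _
    | cons x L ih =>
      show psi (_ * gg x) = _ * g x
      rw [map_mul, ih]
      congr 1
      by_cases hx : x < 8
      · simp only [gg, g, dif_pos hx, psi_gen]
      · simp only [gg, g, dif_neg hx, map_one]
  have hlk : ∀ i : Fin 378, lk 9 (primeK.getD j 0) i = imgW (primeW.getD j []) i := fun i => by
    rw [← hp', pkF_range, lk_pk 9 (fun x hx => ?_) (by simp)]
    · simp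
    · obtain ⟨k, hk, rfl⟩ := List.mem_map.1 hx
      exact img_lt _ hl ⟨k, List.mem_range.1 hk⟩
  refine Tails.exists_orderOf psi hw psi_injective ⟨CfsgLib.Sporadic.CosetCert.appProd gg (primeW.getD j []), ?_⟩
    ht ?_ ?_
  · intro i
    rw [key, appProd_img (g := g) (fun x => dif_pos x.2) _ hl, hlk]
  · intro e
    rw [e, ← Bool.not_eq_true, Nat.beq_eq] at hne
    exact hne rfl
  · refine hp'.symm.trans ?_
    rw [pkF_range, pkF_range]
    exact congrArg (pk 9) (List.map_congr_left fun i hi => (hlk ⟨i, List.mem_range.1 hi⟩).symm)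

theorem card_ker_le (Γ : Type) [Group Γ] [Finite Γ] (σ : Γ →* G) (hσ : Cfsg.IsStemExtension σ) :
    Nat.card σ.ker ≤ 6 := by
  refine Tails.card_ker_le σ hσ (by norm_num) fun p hp hd => ?_
  rw [card_G] at hd
  have hp' : p = 2 ∨ p = 3 ∨ p = 5 ∨ p = 7 ∨ p = 13 := by
    have h1 : p ∣ 2 ^ 9 * 3 ^ 9 * 5 * 7 * 13 := hd
    have q : ∀ r : ℕ, r.Prime → p ∣ r → p = r := fun r hr h => (Nat.prime_dvd_prime_iff_eq hp hr).1 h
    simp only [Nat.Prime.dvd_mul hp] at h1
    rcases h1 with (((h1 | h1) | h1) | h1) | h1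
    · exact Or.inl (q 2 Nat.prime_two (hp.dvd_of_dvd_pow h1))
    · exact Or.inr (Or.inl (q 3 Nat.prime_three (hp.dvd_of_dvd_pow h1)))
    · exact Or.inr (Or.inr (Or.inl (q 5 Nat.prime_five h1)))
    · exact Or.inr (Or.inr (Or.inr (Or.inl (q 7 (by norm_num) h1))))
    · exact Or.inr (Or.inr (Or.inr (Or.inr (q 13 (by norm_num) h1))))
  haveI := Fact.mk hp
  have hcyc : ∀ j < 3, [5, 7, 13].getD j 0 = p → ¬ p ^ 2 ∣ 4585351680 →
      (Nat.card σ.ker).factorization p ≤ (6 : ℕ).factorization p := fun j hj hm h2 => by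
    obtain ⟨g, hg⟩ := exists_order j hj p hm
    rw [Tails.factorization_card_ker_of_orderOf σ hσ g (k := 1) (by rw [hg, pow_one]) (by rwa [card_G])]
    exact Nat.zero_le _
  rcases hp' with rfl | rfl | rfl | rfl | rfl
  · exact (bound slp2_ok pick2_ok cert2_eqs cert2_comb cert2_shape rels2_ok all2_ok inner2_ok Γ σ hσ).trans
      ((Nat.factorization_le_iff_dvd two_ne_zero (by norm_num)).2 (by norm_num) 2)
  · exact (bound slp3_ok pick3_ok cert3_eqs cert3_comb cert3_shape rels3_ok all3_ok inner3_ok Γ σ hσ).trans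
      ((Nat.factorization_le_iff_dvd three_ne_zero (by norm_num)).2 (by norm_num) 3)
  · exact hcyc 0 (by norm_num) rfl (by norm_num)
  · exact hcyc 1 (by norm_num) rfl (by norm_num)
  · exact hcyc 2 (by norm_num) rfl (by norm_num)

theorem hasMultiplier : Cfsg.HasCyclicSchurMultiplier G 6 := by
  obtain ⟨Γ, _, _, σ, hσ, hk, hc⟩ := exists_cover
  haveI := hc
  refine Basic.hasSchurMultiplier_of_le σ hσ (mulEquivOfCyclicCardEq (by rw [hk]; simp)) fun Δ _ _ τ hτ => ?_
  rw [show Nat.card (Multiplicative (ZMod 6)) = 6 by simp]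
  exact card_ker_le Δ τ hτ

end CfsgLib.Schur.OSeven
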