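import Cfsg.Agent.Lib.Sporadic.O7Model
import Cfsg.Agent.Lib.Sporadic.OutCert.Perm
import Cfsg.Agent.Lib.Schur.OSeven.Data
import Cfsg.Agent.Lib.Classical.OrthSimple

/-!
# The presented orthogonal group of dimension seven over three elements on 378 lines
-/

set_option autoImplicit false
set_option maxRecDepth 100000

open CfsgLib.Orth CfsgLib.Classical CfsgLib.ThreeTransp.OmegaSeven

namespace CfsgLib.Schur.OSeven

open CfsgLib.Sporadic.CosetCert CfsgLib.Sporadic.OutCert

/-- The group. -/
abbrev G : Type := O7P.P

/-- The generators. -/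
abbrev gen (x : Fin 8) : G := PresentedGroup.of x

theorem gen_closure : Subgroup.closure (Set.range gen) = ⊤ := PresentedGroup.closure_range_of _

theorem omg_center : Subgroup.center ↥O7P.Omg = ⊥ := by
  have h2 : (2 : ZMod 3) ≠ 0 := by decide
  have hQ := oddForm_nondeg (F := ZMod 3) 3 h2
  refine (Subgroup.eq_bot_iff_forall _).2 fun z hz => ?_
  rcases eq_one_or_negEl_of_commute hQ h2 (hypPairs_odd 3 (by norm_num)) z.1
    (central_commutes z hz) with h | h
  · exact Subtype.ext h
  · exfalso
    have hd := ((mem_commutator_odd hQ h2 z.1).1 z.2).1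
    rw [h, show ((negEl (oddForm (ZMod 3) 3)).1 : (Unit ⊕ (Fin 3 ⊕ Fin 3) → ZMod 3) →ₗ[ZMod 3] _) =
        (-1 : ZMod 3) • LinearMap.id from LinearMap.ext fun v => (neg_one_smul (ZMod 3) v).symm,
      LinearMap.det_smul, LinearMap.det_id, mul_one, Module.finrank_fintype_fun_eq_card] at hd
    simp only [Fintype.card_sum, Fintype.card_unit, Fintype.card_fin] at hd
    revert hd
    decide

/-- The presented group is the commutator subgroup. -/
noncomputable def equivOmg : G ≃* O7P.Omg := MulEquiv.ofBijective O7P.toOm O7P.toOm_bijective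

instance finite_G : Finite G := Nat.finite_of_card_ne_zero O7P.card_le.2

theorem card_G : Nat.card G = 4585351680 := by
  refine le_antisymm O7P.card_le.1 ?_
  refine le_trans ?_ (Nat.card_le_card_of_surjective
    (O7P.act.comp (O7P.Omg.subtype.comp O7P.toOm)).rangeRestrict
    (MonoidHom.rangeRestrict_surjective _))
  rw [← O7Data.chainG_prod]
  exact PTab.chainProd_le_card O7P.acts O7Data.table_slp _ [] _ O7Data.chainG_ok
    fun e _ r _ _ => ⟨_, rfl⟩

theorem isSimple_G : IsSimpleGroup G := by
  have h2 : (2 : ZMod 3) ≠ 0 := by decide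
  have hs : IsSimpleGroup (↥O7P.Omg ⧸ Subgroup.center ↥O7P.Omg) :=
    commutator_quotient_simple (oddForm_nondeg (F := ZMod 3) 3 h2)
      (Or.inr (by rw [Module.finrank_fintype_fun_eq_card]; simp)) (hypPairs_odd 3 (by norm_num))
      (by rw [Module.finrank_fintype_fun_eq_card]; simp)
  exact (equivOmg.trans ((QuotientGroup.quotientMulEquivOfEq omg_center).trans
    QuotientGroup.quotientBot).symm).isSimpleGroup

theorem isPerfect_G : Group.IsPerfect G := by
  haveI := isSimple_G
  refine Group.isPerfect_def.2 ?_
  rcases ((inferInstance : (commutator G).Normal)).eq_bot_or_eq_top with h | h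
  · exfalso
    have hc : ∀ a b : G, a * b = b * a := fun a b => by
      rw [← commutatorElement_eq_one_iff_mul_comm]
      exact Subgroup.mem_bot.1 (h ▸ Subgroup.commutator_mem_commutator (Subgroup.mem_top a) (Subgroup.mem_top b))
    letI : CommGroup G := { (inferInstance : Group G) with mul_comm := hc }
    have := card_G ▸ (IsSimpleGroup.prime_card (α := G))
    norm_num at this
  · exact h

/-- A letter is a permutation of the lines, of order two. -/
noncomputable def letterOK (x : ℕ) : Bool :=
  allF (fun i => Nat.blt (lk 9 (gensK.getD x 0) i) 378 &&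
    Nat.beq (lk 9 (gensK.getD x 0) (lk 9 (gensK.getD x 0) i)) i) 378

theorem letters_ok : allF letterOK 8 = true := by decide +kernel

theorem letter_spec (x : Fin 8) (i : Fin 378) : lk 9 (gensK.getD x 0) i < 378 ∧
    lk 9 (gensK.getD x 0) (lk 9 (gensK.getD x 0) i) = i := by
  have h := allF_iff.1 (allF_iff.1 letters_ok x x.2) i i.2
  simpa only [Bool.and_eq_true, Nat.blt_eq, Nat.beq_eq] using h

/-- The permutation of a letter. -/
noncomputable def genP (x : Fin 8) : Equiv.Perm (Fin 378) :=
  Function.Involutive.toPerm (fun i => ⟨lk 9 (gensK.getD x 0) i, (letter_spec x i).1⟩)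
    fun i => Fin.ext (letter_spec x i).2

theorem rep_genP (x : Fin 8) : Rep 9 378 (gensK.getD x 0) (genP x) := fun _ => rfl

theorem genP_inv (x : Fin 8) : (genP x)⁻¹ = genP x := Function.Involutive.toPerm_symm _

/-- The image of a point under letters in order of application. -/
noncomputable def imgW (L : List ℕ) : ℕ → ℕ :=
  List.rec (motive := fun _ => ℕ → ℕ) id (fun x _ ih i => ih (lk 9 (gensK.getD x 0) i)) L

/-- Letters in order of application move nothing. -/
noncomputable def idW (L : List ℕ) : Bool :=
  L.all (fun y => decide (y < 8)) && allF (fun i => Nat.beq (imgW L i) i) 378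

theorem rels_perm : O7P.allRels.all (fun r => idW (O7P.letters r)) = true := by decide +kernel

theorem appProd_img {g : ℕ → Equiv.Perm (Fin 378)} (hg : ∀ x : Fin 8, g x = genP x) :
    ∀ L : List ℕ, (∀ y ∈ L, y < 8) → ∀ i, (appProd g L i : ℕ) = imgW L i := by
  intro L
  induction L with
  | nil => exact fun _ _ => rfl
  | cons x L ih =>
    intro h i
    have hx := h x List.mem_cons_self
    show (appProd g L (g x i) : ℕ) = _
    rw [ih (fun y hy => h y (List.mem_cons_of_mem _ hy)), hg ⟨x, hx⟩]
    rfl

theorem genP_rels : ∀ r ∈ O7P.allRels, FreeGroup.lift genP r = 1 := by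
  intro r hr
  have h := List.all_eq_true.1 rels_perm r hr
  simp only [idW, Bool.and_eq_true, List.all_eq_true, decide_eq_true_eq, allF_iff, Nat.beq_eq] at h
  let g : ℕ → Equiv.Perm (Fin 378) := fun y => if hy : y < 8 then genP ⟨y, hy⟩ else 1
  have hg : ∀ x : Fin 8, g x = genP x := fun x => dif_pos x.2
  rw [lift_eq_appProd genP g _ _ hg (fun x => (hg x).trans (genP_inv x).symm) r]
  refine Equiv.ext fun i => Fin.ext ?_
  show (appProd g (O7P.letters r) i : ℕ) = i
  rw [appProd_img hg _ h.1, h.2 i i.2]

/-- The action on 378 lines. -/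
noncomputable def psi : G →* Equiv.Perm (Fin 378) :=
  PresentedGroup.toGroup (lift_cox_eq_one genP O7P.coding.pairs_cover genP_rels)

theorem psi_gen (x : Fin 8) : psi (gen x) = genP x := PresentedGroup.toGroup.of _

theorem rep_gen (x : Fin 8) : Rep 9 378 (gensK.getD x 0) (psi (gen x)) := by
  rw [psi_gen]; exact rep_genP x

theorem psi_injective : Function.Injective psi := by
  haveI := isSimple_G
  rw [← MonoidHom.ker_eq_bot_iff]
  refine (psi.normal_ker.eq_bot_or_eq_top).resolve_right fun h => ?_
  have h1 : psi (gen 0) = 1 := MonoidHom.mem_ker.1 (h ▸ Subgroup.mem_top _)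
  have h2 := congrArg (fun π : Equiv.Perm (Fin 378) => (π 0 : ℕ)) h1
  simp only [Equiv.Perm.one_apply] at h2
  rw [← rep_gen 0 0] at h2
  revert h2
  decide +kernel

end CfsgLib.Schur.OSeven
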